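import Groth.Agent.MilnorK.K311.JIso
import Groth.Agent.MilnorK.K284.JPull
import Groth.Agent.MilnorK.K477.JTowers

/-!
# Node (J) of S13667: the towers exist

`hD`: nonzero endomorphisms of `K30.J Y b m` are isomorphisms (`m ≤ n`, `b` not a norm); `hJ`: `π^* J_m ≅ O(-m)^p`;
`towers : K30.Towers Y b`.
-/

set_option autoImplicit false
universe u v

open CategoryTheory CategoryTheory.Limits AlgebraicGeometry Opposite TopologicalSpace

namespace K311.JTow

open K58 K426.XDef

variable {n : ℕ} [hp : Fact (n + 1).Prime] (Y : Kum.{u} (n + 1)) (b : Y.kˣ)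

theorem finrank_end (m : ℤ) : Module.finrank Y.k (K426.XLin.J Y b m ⟶ K426.XLin.J Y b m) = (n + 1) ^ 2 :=
  K284.JPull.finrank_end_push Y b m

attribute [local instance] Abelian.hasFiniteBiproducts in
theorem hJ (m : ℕ) (h1 : 1 ≤ m) (_ : m ≤ n) : Nonempty ((Scheme.Modules.pullback (π Y b)).obj (K30.J Y b m) ≅
    ⨁ fun _ : Fin (n + 1) => Twist.twistProjSpace n Y.L (-(m : ℤ))) := by
  cases m with
  | zero => exact absurd h1 (by omega)
  | succ m => exact K284.JPull.nonempty_iso Y b _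

variable {Y b}

theorem isIso_of_ne_zero (hb : ∀ z : Y.L, Algebra.norm Y.k z ≠ (b : Y.k)) (m : ℕ) (hm : m < n + 1)
    (f : K30.J Y b m ⟶ K30.J Y b m) (hf : f ≠ 0) : IsIso f :=
  JIso.isIso_J (finrank_end Y b) hb m hm f hf

/-- **Node (J).** -/
theorem towers (hb : ∀ z : Y.L, Algebra.norm Y.k z ≠ (b : Y.k)) : K30.Towers Y b :=
  Groth.Agent.K477.JTowers.towers_of Y b (hJ Y b) fun m _ hm f hf => isIso_of_ne_zero hb m (Nat.lt_succ_of_le hm) f hf

end K311.JTow
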